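import Mathlib.RingTheory.Polynomial.Wronskian
import Mathlib.RingTheory.Polynomial.Basic
import Mathlib.Algebra.Polynomial.Expand
import Mathlib.Algebra.Polynomial.RingDivision
import Mathlib.FieldTheory.Perfect
import Mathlib.FieldTheory.IsAlgClosed.Basic
import Mathlib.RingTheory.PrincipalIdealDomain
import Mathlib.RingTheory.Polynomial.UniqueFactorization

/-!
Wronskians of pairs of polynomials in positive characteristic.
-/

set_option autoImplicit false
universe u

open Polynomial

noncomputable section

namespace Groth.Agent.InsepLimit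

section Ring

variable {R : Type u} [CommRing R]

theorem wronskian_smul_left (a b c : R[X]) (hc : derivative c = 0) : wronskian (c * a) b = c * wronskian a b := by
  simp only [wronskian, derivative_mul, hc]
  ring

theorem wronskian_smul_right (a b c : R[X]) (hc : derivative c = 0) : wronskian a (c * b) = c * wronskian a b := by
  simp only [wronskian, derivative_mul, hc]
  ring

theorem wronskian_combination (a b u v : R[X]) (hu : derivative u = 0) (hv : derivative v = 0) :
    wronskian a (u * a + v * b) = v * wronskian a b := by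
  rw [wronskian_add_right, wronskian_smul_right a a u hu, wronskian_smul_right a b v hv, wronskian_self_eq_zero,
    mul_zero, zero_add]

theorem map_wronskian {S : Type u} [CommRing S] (φ : R →+* S) (a b : R[X]) :
    (wronskian a b).map φ = wronskian (a.map φ) (b.map φ) := by
  simp [wronskian, Polynomial.derivative_map]

theorem pow_dvd_wronskian {c : R} {s : R[X]} {e : ℕ} (h : (X - C c) ^ e ∣ s) (t : R[X]) :
    (X - C c) ^ (e - 1) ∣ wronskian s t :=
  dvd_sub (dvd_mul_of_dvd_left ((pow_dvd_pow _ (Nat.sub_le e 1)).trans h) _)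
    (dvd_mul_of_dvd_left (pow_sub_one_dvd_derivative_of_pow_dvd h) _)

theorem natDegree_wronskian_le {a b : R[X]} {x y N : ℕ} (ha : a.natDegree ≤ x) (hb : b.natDegree ≤ y)
    (h : x + y ≤ N + 1) : (wronskian a b).natDegree ≤ N := by
  by_cases hw : wronskian a b = 0
  · simp [hw]
  · have := natDegree_wronskian_lt_add hw
    omega

theorem coeff_wronskian_top {a b : R[X]} {x y : ℕ} (ha : a.natDegree ≤ x) (hb : b.natDegree ≤ y) (hxy : 1 ≤ x + y) :
    (wronskian a b).coeff (x + y - 1) = a.coeff x * b.coeff y * ((y : R) - (x : R)) := by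
  rw [wronskian, coeff_sub]
  have h1 : (a * derivative b).coeff (x + y - 1) = a.coeff x * b.coeff y * (y : R) := by
    rcases Nat.eq_zero_or_pos y with h0 | h0
    · have : derivative b = 0 := derivative_of_natDegree_zero (by omega)
      simp [this, h0]
    · rw [show x + y - 1 = x + (y - 1) by omega,
        coeff_mul_add_eq_of_natDegree_le ha ((natDegree_derivative_le b).trans (by omega)), coeff_derivative,
        show y - 1 + 1 = y by omega, show ((y - 1 : ℕ) : R) + 1 = (y : R) by
          rw [← Nat.cast_add_one, show y - 1 + 1 = y by omega]]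
      ring
  have h2 : (derivative a * b).coeff (x + y - 1) = a.coeff x * b.coeff y * (x : R) := by
    rcases Nat.eq_zero_or_pos x with h0 | h0
    · have : derivative a = 0 := derivative_of_natDegree_zero (by omega)
      simp [this, h0]
    · rw [show x + y - 1 = (x - 1) + y by omega,
        coeff_mul_add_eq_of_natDegree_le ((natDegree_derivative_le a).trans (by omega)) hb, coeff_derivative,
        show x - 1 + 1 = x by omega, show ((x - 1 : ℕ) : R) + 1 = (x : R) by
          rw [← Nat.cast_add_one, show x - 1 + 1 = x by omega]]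
      ring
  rw [h1, h2]
  ring

end Ring

section Field

variable {k : Type u} [Field k]

theorem wronskian_trans {a b c : k[X]} (ha : a ≠ 0) (hb : wronskian a b = 0) (hc : wronskian a c = 0) :
    wronskian b c = 0 := by
  have h : a * wronskian b c = b * wronskian a c - c * wronskian a b := by
    simp only [wronskian]; ring
  rw [hb, hc, mul_zero, mul_zero, sub_zero] at h
  exact (mul_eq_zero.1 h).resolve_left ha

theorem natDegree_wronskian_add_two_le {a b : k[X]} {d : ℕ} (ha : a.natDegree ≤ d) (hb : b.natDegree ≤ d)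
    (hw : wronskian a b ≠ 0) : (wronskian a b).natDegree + 2 ≤ 2 * d := by
  have h1 := natDegree_wronskian_lt_add hw
  by_contra hh
  have hda : a.natDegree = d := by omega
  have hdb : b.natDegree = d := by omega
  have hlt : (wronskian a b).natDegree = d + d - 1 := by omega
  have h := coeff_wronskian_top ha hb (by omega)
  rw [sub_self, mul_zero, ← hlt, coeff_natDegree] at h
  exact hw (leadingCoeff_eq_zero.1 h)

theorem natDegree_wronskian_eq {a b : k[X]} (ha : a ≠ 0) (hb : b ≠ 0)
    (hne : (b.natDegree : k) ≠ (a.natDegree : k)) :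
    wronskian a b ≠ 0 ∧ (wronskian a b).natDegree + 1 = a.natDegree + b.natDegree := by
  have hpos : 1 ≤ a.natDegree + b.natDegree := by
    by_contra h
    exact hne (by rw [show a.natDegree = 0 by omega, show b.natDegree = 0 by omega])
  have h := coeff_wronskian_top (le_refl a.natDegree) (le_refl b.natDegree) hpos
  have h0 : (wronskian a b).coeff (a.natDegree + b.natDegree - 1) ≠ 0 := by
    rw [h, coeff_natDegree, coeff_natDegree]
    exact mul_ne_zero (mul_ne_zero (leadingCoeff_ne_zero.2 ha) (leadingCoeff_ne_zero.2 hb)) (sub_ne_zero.2 hne)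
  have hw : wronskian a b ≠ 0 := fun h1 => h0 (by rw [h1, coeff_zero])
  refine ⟨hw, ?_⟩
  have := natDegree_wronskian_lt_add hw
  have := le_natDegree_of_ne_zero h0
  omega

variable (p : ℕ) [hp : Fact p.Prime] [CharP k p]

/-- A step of division by a polynomial with a multiplier killed by derivation. -/
theorem exists_reduce {h q : k[X]} (hh : h ≠ 0) (hq : q ≠ 0) (hle : h.natDegree ≤ q.natDegree)
    (hmod : (q.natDegree : k) = (h.natDegree : k)) :
    ∃ (c : k) (j : ℕ), p * j + h.natDegree = q.natDegree ∧
      (q - C c * X ^ (p * j) * h = 0 ∨ (q - C c * X ^ (p * j) * h).natDegree < q.natDegree) := by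
  have hdvd : p ∣ q.natDegree - h.natDegree := by
    rw [← CharP.cast_eq_zero_iff k p, Nat.cast_sub hle, hmod, sub_self]
  obtain ⟨j, hj⟩ := hdvd
  refine ⟨q.leadingCoeff / h.leadingCoeff, j, by omega, ?_⟩
  let t := C (q.leadingCoeff / h.leadingCoeff) * X ^ (p * j) * h
  have hc : q.leadingCoeff / h.leadingCoeff ≠ 0 :=
    div_ne_zero (leadingCoeff_ne_zero.2 hq) (leadingCoeff_ne_zero.2 hh)
  have ht0 : t ≠ 0 := mul_ne_zero (mul_ne_zero (C_ne_zero.2 hc) (pow_ne_zero _ X_ne_zero)) hh
  have htd : t.degree = q.degree := by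
    rw [degree_eq_natDegree ht0, degree_eq_natDegree hq]
    congr 1
    rw [natDegree_mul (mul_ne_zero (C_ne_zero.2 hc) (pow_ne_zero _ X_ne_zero)) hh,
      natDegree_C_mul_X_pow _ _ hc]
    omega
  have htl : t.leadingCoeff = q.leadingCoeff := by
    simp [t, leadingCoeff_ne_zero.2 hh]
  by_cases h0 : q - t = 0
  · exact Or.inl h0
  · exact Or.inr (natDegree_lt_natDegree h0 (degree_sub_lt_left htd.symm hq htl.symm))

omit hp in
theorem derivative_C_mul_X_pow_mul (c : k) (j : ℕ) : derivative (C c * X ^ (p * j)) = 0 := by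
  simp [derivative_X_pow, CharP.cast_eq_zero k p]

include hp in
theorem exists_factor {h : k[X]} (hh : h ≠ 0)
    (hmin : ∀ q : k[X], q ≠ 0 → wronskian h q = 0 → h.natDegree ≤ q.natDegree) :
    ∀ (m : ℕ) (q : k[X]), q.natDegree ≤ m → wronskian h q = 0 → ∃ c : k[X], derivative c = 0 ∧ q = c * h := by
  intro m
  induction m with
  | zero =>
    intro q hq hw
    by_cases h0 : q = 0
    · exact ⟨0, by simp [h0]⟩
    have h1 := hmin q h0 hw
    obtain ⟨c, j, hj, hred⟩ := exists_reduce p hh h0 h1 (by rw [show q.natDegree = 0 by omega, show h.natDegree = 0 by omega])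
    rcases hred with hred | hred
    · exact ⟨_, derivative_C_mul_X_pow_mul p c j, sub_eq_zero.1 hred⟩
    · omega
  | succ m ih =>
    intro q hq hw
    by_cases h0 : q = 0
    · exact ⟨0, by simp [h0]⟩
    have h1 := hmin q h0 hw
    have hmod : (q.natDegree : k) = (h.natDegree : k) := by
      by_contra hne
      exact (natDegree_wronskian_eq hh h0 hne).1 hw
    obtain ⟨c, j, hj, hred⟩ := exists_reduce p hh h0 h1 hmod
    have hd := derivative_C_mul_X_pow_mul p c j
    rcases hred with hred | hred
    · exact ⟨_, hd, sub_eq_zero.1 hred⟩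
    · obtain ⟨c', hc', hq'⟩ := ih (q - C c * X ^ (p * j) * h) (by omega) (by
        rw [sub_eq_add_neg, wronskian_add_right, wronskian_neg_right, hw, wronskian_smul_right _ _ _ hd,
          wronskian_self_eq_zero, mul_zero, neg_zero, add_zero])
      exact ⟨c' + C c * X ^ (p * j), by rw [derivative_add, hc', hd, add_zero], by rw [add_mul, ← hq']; ring⟩

variable [PerfectRing k p]

include hp in
theorem exists_pow_eq {f : k[X]} (hf : derivative f = 0) : ∃ a : k[X], f = a ^ p := by
  refine ⟨(contract p f).map (frobeniusEquiv k p).symm.toRingHom, ?_⟩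
  rw [← map_frobenius_expand p, map_expand, map_map]
  have : (frobenius k p).comp (frobeniusEquiv k p).symm.toRingHom = RingHom.id k := by
    ext x
    exact frobenius_apply_frobeniusEquiv_symm k p x
  rw [this, Polynomial.map_id, expand_contract p hf hp.1.ne_zero]

omit [CharP k p] [PerfectRing k p] in
theorem exists_cancel_pow [IsAlgClosed k] {Q W a b : k[X]} (ha : a ≠ 0)
    (hQ : ∀ c : k, ¬ (X - C c) ^ p ∣ Q) (h : a ^ p * W = Q * b ^ p) : ∃ c : k[X], W = Q * c ^ p := by
  obtain ⟨a', b', g, hrel, rfl, rfl⟩ := UniqueFactorizationMonoid.exists_reduced_factors a ha b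
  have hg0 : g ≠ 0 := fun h0 => ha (by rw [h0, zero_mul])
  have h' : a' ^ p * W = Q * b' ^ p := by
    refine mul_left_cancel₀ (pow_ne_zero p hg0) ?_
    rw [← mul_assoc, ← mul_pow, h, mul_pow]
    ring
  have hdvd : a' ^ p ∣ Q := (hrel.pow (m := p) (n := p)).dvd_of_dvd_mul_right ⟨W, h'.symm⟩
  have hunit : IsUnit a' := by
    by_contra hu
    obtain ⟨c, hc⟩ := IsAlgClosed.exists_root a' fun hd => hu (isUnit_iff_degree_eq_zero.2 hd)
    exact hQ c ((pow_dvd_pow_of_dvd (dvd_iff_isRoot.2 hc) p).trans hdvd)
  obtain ⟨a'', rfl⟩ := hunit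
  refine ⟨b' * ((a''⁻¹ : (k[X])ˣ) : k[X]), ?_⟩
  rw [mul_pow, ← mul_assoc, ← h', mul_comm ((a'' : k[X]) ^ p) W, mul_assoc, ← mul_pow, Units.mul_inv, one_pow,
    mul_one]

end Field

end Groth.Agent.InsepLimit
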