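import Mathlib.RingTheory.DiscreteValuationRing.Basic
import Mathlib.RingTheory.LocalRing.ResidueField.Basic
import Mathlib.RingTheory.Localization.FractionRing
import Mathlib.RingTheory.Localization.Integer
import Mathlib.RingTheory.Polynomial.Basic
import Mathlib.Algebra.Module.PID
import Mathlib.LinearAlgebra.FreeModule.PID
import Mathlib.LinearAlgebra.Dimension.Finrank
import Mathlib.RingTheory.Polynomial.DegreeLT

/-!
Reduction of the integral points of a space of polynomials over a discretely valued field.
-/

set_option autoImplicit false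
universe u

open Polynomial

noncomputable section

namespace Groth.Agent.InsepLimit

variable (A : Type u) [CommRing A] [IsDomain A] [IsDiscreteValuationRing A]
variable (K : Type u) [Field K] [Algebra A K] [IsFractionRing A K]

theorem exists_independent_reductions (U : Submodule K K[X]) (N : ℕ) (hU : U ≤ degreeLT K N) :
    ∃ D : Fin (Module.finrank K U) → A[X], (∀ i, (D i).map (algebraMap A K) ∈ U) ∧
      LinearIndependent (IsLocalRing.ResidueField A) fun i => (D i).map (IsLocalRing.residue A) := by
  classical
  have hinj : Function.Injective (algebraMap A K) := IsFractionRing.injective A K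
  let ι : A[X] →ₗ[A] K[X] := (mapAlgHom (Algebra.ofId A K)).toLinearMap
  let S : Submodule A A[X] := Submodule.comap ι (U.restrictScalars A)
  have hS : S ≤ degreeLT A N := fun x hx => by
    rw [mem_degreeLT, ← degree_map_eq_of_injective hinj]
    exact mem_degreeLT.1 (hU hx)
  have : Module.Finite A (degreeLT A N) := Module.Finite.equiv (degreeLTEquiv A N).symm
  have : IsNoetherian A (degreeLT A N) := isNoetherian_of_isNoetherianRing_of_finite A _
  have : Module.Finite A S := Module.Finite.iff_fg.2 (by
    have h := IsNoetherian.noetherian (Submodule.comap (degreeLT A N).subtype S)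
    have h' := h.map (degreeLT A N).subtype
    rwa [Submodule.map_comap_subtype, inf_eq_right.2 hS] at h')
  obtain ⟨r, b⟩ := (⟨_, Module.finBasis A S⟩ : Σ' r : ℕ, Module.Basis (Fin r) A S)
  have hspan : U ≤ Submodule.span K (Set.range fun i => ι (b i : A[X])) := fun x hx => by
    obtain ⟨a, ha⟩ := IsLocalization.exist_integer_multiples_of_finset (nonZeroDivisors A)
      ((Finset.range (x.natDegree + 1)).image x.coeff)
    have hint : ∀ i, ∃ y : A, algebraMap A K y = (a : A) • x.coeff i := fun i => by
      by_cases hi : i ≤ x.natDegree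
      · exact ha _ (Finset.mem_image.2 ⟨i, Finset.mem_range.2 (by omega), rfl⟩)
      · exact ⟨0, by rw [coeff_eq_zero_of_natDegree_lt (by omega), smul_zero, map_zero]⟩
    choose y hy using hint
    let x' : A[X] := ∑ i ∈ Finset.range (x.natDegree + 1), monomial i (y i)
    have hx' : ι x' = algebraMap A K (a : A) • x := by
      ext j
      show ((mapAlgHom (Algebra.ofId A K)) x').coeff j = _
      rw [coe_mapAlgHom, coeff_map, coeff_smul, finsetSum_coeff]
      simp only [coeff_monomial, Finset.sum_ite_eq', Finset.mem_range]
      split_ifs with hj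
      · rw [smul_eq_mul, ← Algebra.smul_def]; exact hy j
      · rw [map_zero, coeff_eq_zero_of_natDegree_lt (by omega), smul_zero]
    have hmem : x' ∈ S := by
      show ι x' ∈ U
      rw [hx']
      exact U.smul_mem _ hx
    have hx2 : ι x' ∈ Submodule.span K (Set.range fun i => ι (b i : A[X])) := by
      have h := congrArg (fun z : S => ι z.1) (b.sum_repr ⟨x', hmem⟩)
      simp only at h
      rw [← h, AddSubmonoidClass.coe_finsetSum, map_sum]
      refine Submodule.sum_mem _ fun i _ => ?_
      rw [SetLike.val_smul, map_smul, algebra_compatible_smul K]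
      exact Submodule.smul_mem _ _ (Submodule.subset_span ⟨i, rfl⟩)
    rw [hx', Submodule.smul_mem_iff] at hx2
    · exact hx2
    · exact (map_ne_zero_iff _ hinj).2 (nonZeroDivisors.ne_zero a.2)
  have : Module.Finite K (Submodule.span K (Set.range fun i => ι (b i : A[X]))) :=
    Module.Finite.span_of_finite K (Set.finite_range _)
  have hr : Module.finrank K U ≤ r :=
    (Submodule.finrank_mono hspan).trans ((finrank_range_le_card _).trans_eq (Fintype.card_fin r))
  refine ⟨fun i => (b (Fin.castLE hr i) : A[X]), fun i => (b (Fin.castLE hr i)).2, ?_⟩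
  suffices h : LinearIndependent (IsLocalRing.ResidueField A)
      fun i => (b i : A[X]).map (IsLocalRing.residue A) from h.comp _ (Fin.castLE_injective hr)
  obtain ⟨π, hπ⟩ := IsDiscreteValuationRing.exists_irreducible A
  rw [Fintype.linearIndependent_iff]
  intro c hc i
  choose l hl using fun j => IsLocalRing.residue_surjective (c j)
  let z : S := ∑ j, l j • b j
  have hz : (z : A[X]) = ∑ j, l j • (b j : A[X]) := by simp [z]
  have hz0 : (z : A[X]).map (IsLocalRing.residue A) = 0 := by
    rw [hz, Polynomial.map_sum, ← hc]
    refine Finset.sum_congr rfl fun j _ => ?_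
    rw [Polynomial.map_smul, hl]
  have hdiv : C π ∣ (z : A[X]) := C_dvd_iff_dvd_coeff _ _ |>.2 fun j => by
    have h := congrArg (fun q : (IsLocalRing.ResidueField A)[X] => q.coeff j) hz0
    simp only [coeff_map, coeff_zero, IsLocalRing.residue_eq_zero_iff] at h
    rwa [hπ.maximalIdeal_eq, Ideal.mem_span_singleton] at h
  obtain ⟨q, hq⟩ := hdiv
  have hqS : q ∈ S := by
    show ι q ∈ U
    have h1 : ι (z : A[X]) ∈ U := z.2
    rw [hq, ← smul_eq_C_mul, map_smul, algebra_compatible_smul K, Submodule.smul_mem_iff] at h1
    · exact h1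
    · exact (map_ne_zero_iff _ hinj).2 hπ.ne_zero
  have hzq : z = π • (⟨q, hqS⟩ : S) := Subtype.ext (hq.trans (smul_eq_C_mul π).symm)
  have hli := congrArg (fun w : S => b.repr w i) hzq
  simp only [z, map_sum, map_smul, Finsupp.smul_apply, Finsupp.finsetSum_apply, Module.Basis.repr_self] at hli
  rw [← hl i, IsLocalRing.residue_eq_zero_iff, hπ.maximalIdeal_eq, Ideal.mem_span_singleton]
  refine ⟨b.repr ⟨q, hqS⟩ i, ?_⟩
  simpa [Finsupp.single_apply, eq_comm] using hli

end Groth.Agent.InsepLimit
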