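import Groth.Agent.InsepLimit.Basic
import Groth.Agent.InsepLimit.Lattice
import Groth.Prelude.Def_W4c1limliniiiiRamP1

/-!
An inseparable limit of pencils forces a special configuration of the ramification points.
-/

set_option autoImplicit false
universe u

open Polynomial

noncomputable section

namespace Groth.Agent.InsepLimit

variable {K : Type u} [Field K]

/-- The space of linear combinations with coefficients in `K[X^p]` of bounded degree. -/
def comb (p M : ℕ) (F G : K[X]) : ((Fin (M + 1) → K) × (Fin (M + 1) → K)) →ₗ[K] K[X] :=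
  (Fintype.linearCombination K fun j : Fin (M + 1) => X ^ (p * j.val) * F).coprod
    (Fintype.linearCombination K fun j : Fin (M + 1) => X ^ (p * j.val) * G)

theorem comb_apply (p M : ℕ) (F G : K[X]) (u v : Fin (M + 1) → K) :
    comb p M F G (u, v) =
      (∑ j, C (u j) * X ^ (p * j.val)) * F + (∑ j, C (v j) * X ^ (p * j.val)) * G := by
  simp [comb, Fintype.linearCombination_apply, Finset.sum_mul, smul_eq_C_mul, mul_assoc]

variable (p : ℕ) [hp : Fact p.Prime] [CharP K p]

omit hp in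
theorem derivative_sum_expand (M : ℕ) (u : Fin (M + 1) → K) :
    derivative (∑ j, C (u j) * X ^ (p * j.val)) = 0 := by
  rw [derivative_sum]
  exact Finset.sum_eq_zero fun j _ => derivative_C_mul_X_pow_mul p _ _

include hp in
theorem eq_zero_of_sum_expand (M : ℕ) (u : Fin (M + 1) → K) (h : ∑ j, C (u j) * X ^ (p * j.val) = 0) :
    u = 0 := by
  funext i
  have := congrArg (fun q : K[X] => q.coeff (p * i.val)) h
  simp only [finsetSum_coeff, coeff_C_mul, coeff_X_pow, coeff_zero] at this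
  rw [Finset.sum_eq_single i] at this
  · simpa using this
  · intro j _ hj
    rw [if_neg (fun h => hj (Fin.ext (Nat.eq_of_mul_eq_mul_left hp.1.pos h.symm))), mul_zero]
  · simp

theorem comb_injective (M : ℕ) {F G : K[X]} (hw : wronskian F G ≠ 0) : Function.Injective (comb p M F G) := by
  rw [← LinearMap.ker_eq_bot, eq_bot_iff]
  rintro ⟨u, v⟩ h
  have h0 : comb p M F G (u, v) = 0 := h
  rw [comb_apply] at h0
  have h1 := congrArg (wronskian F) h0
  rw [wronskian_combination _ _ _ _ (derivative_sum_expand p M u) (derivative_sum_expand p M v),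
    wronskian_zero_right] at h1
  have hv := (mul_eq_zero.1 h1).resolve_right hw
  rw [hv, zero_mul, add_zero] at h0
  have hF : F ≠ 0 := fun h' => hw (by rw [h', wronskian_zero_left])
  have hu := (mul_eq_zero.1 h0).resolve_right hF
  have hu' := eq_zero_of_sum_expand p M u hu
  have hv' := eq_zero_of_sum_expand p M v hv
  subst hu' hv'
  exact Submodule.zero_mem _

omit hp [CharP K p] in
theorem natDegree_sum_expand_le (M : ℕ) (u : Fin (M + 1) → K) :
    (∑ j, C (u j) * X ^ (p * j.val)).natDegree ≤ p * M := by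
  refine natDegree_sum_le_of_forall_le _ _ fun j _ => (natDegree_C_mul_X_pow_le _ _).trans ?_
  exact Nat.mul_le_mul_left p (Nat.lt_succ_iff.1 j.2)

omit hp [CharP K p] in
theorem natDegree_comb_le (M d : ℕ) {F G : K[X]} (hF : F.natDegree ≤ d) (hG : G.natDegree ≤ d)
    (z : (Fin (M + 1) → K) × (Fin (M + 1) → K)) : (comb p M F G z).natDegree ≤ d + p * M := by
  obtain ⟨u, v⟩ := z
  rw [comb_apply]
  have h1 := natDegree_sum_expand_le p M u
  have h2 := natDegree_sum_expand_le p M v
  exact (natDegree_add_le _ _).trans (max_le (natDegree_mul_le.trans (by omega)) (natDegree_mul_le.trans (by omega)))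

theorem exists_congr_multiple {F G : K[X]} {c : K} {e : ℕ} {s : K[X]} (hs : s ∈ Submodule.span K {F, G})
    (hs0 : s ≠ 0) (h : (X - C c) ^ e ∣ s) :
    ∃ (T : K[X]) (a b : K), (X - C c) ^ e ∣ F - C a * T ∧ (X - C c) ^ e ∣ G - C b * T := by
  obtain ⟨α, β, rfl⟩ := Submodule.mem_span_pair.1 hs
  by_cases hβ : β = 0
  · subst hβ
    have hα : α ≠ 0 := fun h0 => hs0 (by simp [h0])
    rw [zero_smul, add_zero, smul_eq_C_mul] at h
    refine ⟨G, 0, 1, ?_, by simp⟩
    simpa using (IsUnit.dvd_mul_left ((isUnit_iff_ne_zero.2 hα).map C)).1 h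
  · refine ⟨F, 1, -(α / β), by simp, ?_⟩
    have e2 : G - C (-(α / β)) * F = C β⁻¹ * (α • F + β • G) := by
      rw [smul_eq_C_mul, smul_eq_C_mul, map_neg, div_eq_mul_inv, map_mul]
      have : C β⁻¹ * C β = (1 : K[X]) := by rw [← map_mul, inv_mul_cancel₀ hβ, map_one]
      linear_combination (-G) * this
    rw [e2]
    exact h.trans (dvd_mul_left _ _)

omit hp [CharP K p] in
theorem congr_eval_expand (c : K) (M : ℕ) (u : Fin (M + 1) → K) [CharP K p] [Fact p.Prime] {e : ℕ} (he : e ≤ p) :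
    (X - C c) ^ e ∣ (∑ j, C (u j) * X ^ (p * j.val)) - C (∑ j, u j * c ^ (p * j.val)) := by
  rw [map_sum, ← Finset.sum_sub_distrib]
  refine Finset.dvd_sum fun j _ => ?_
  rw [map_mul, ← mul_sub, map_pow, pow_mul, pow_mul]
  refine Dvd.dvd.mul_left (((pow_dvd_pow _ he).trans ?_).trans (sub_dvd_pow_sub_pow _ _ _)) _
  rw [← sub_pow_char]

include hp in
theorem exists_congr_range {F G : K[X]} {c : K} {e : ℕ} (he : e ≤ p) {s : K[X]}
    (hs : s ∈ Submodule.span K {F, G}) (hs0 : s ≠ 0) (h : (X - C c) ^ e ∣ s) (M : ℕ) :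
    ∃ T : K[X], ∀ D ∈ LinearMap.range (comb p M F G), ∃ l : K, (X - C c) ^ e ∣ D - C l * T := by
  obtain ⟨T, a, b, ha, hb⟩ := exists_congr_multiple hs hs0 h
  refine ⟨T, ?_⟩
  rintro _ ⟨⟨u, v⟩, rfl⟩
  let u₀ := ∑ j, u j * c ^ (p * j.val)
  let v₀ := ∑ j, v j * c ^ (p * j.val)
  refine ⟨u₀ * a + v₀ * b, ?_⟩
  rw [comb_apply, show (∑ j, C (u j) * X ^ (p * j.val)) * F + (∑ j, C (v j) * X ^ (p * j.val)) * G -
      C (u₀ * a + v₀ * b) * T =
    ((∑ j, C (u j) * X ^ (p * j.val)) - C u₀) * F + C u₀ * (F - C a * T) +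
      (((∑ j, C (v j) * X ^ (p * j.val)) - C v₀) * G + C v₀ * (G - C b * T)) by
    rw [map_add, map_mul, map_mul]; ring]
  exact dvd_add (dvd_add (dvd_mul_of_dvd_left (congr_eval_expand p c M u he) _) (ha.mul_left _))
    (dvd_add (dvd_mul_of_dvd_left (congr_eval_expand p c M v he) _) (hb.mul_left _))

theorem prod_dvd_wronskian {n : ℕ} {P : Fin n → K} (hP : Function.Injective P) {e : Fin n → ℕ} {F G : K[X]}
    (hw : wronskian F G ≠ 0)
    (h : ∀ i, ∃ s ∈ Submodule.span K {F, G}, s ≠ 0 ∧ (X - C (P i)) ^ e i ∣ s) :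
    ∏ i, (X - C (P i)) ^ (e i - 1) ∣ wronskian F G := by
  refine Finset.prod_dvd_of_coprime (fun i _ j _ hij => ((pairwise_coprime_X_sub_C hP hij).pow)) fun i _ => ?_
  obtain ⟨s, hs, hs0, hd⟩ := h i
  obtain ⟨α, β, rfl⟩ := Submodule.mem_span_pair.1 hs
  have h1 := pow_dvd_wronskian hd F
  have h2 := pow_dvd_wronskian hd G
  rw [smul_eq_C_mul, smul_eq_C_mul, wronskian_add_left, wronskian_smul_left _ _ _ derivative_C,
    wronskian_smul_left _ _ _ derivative_C, wronskian_self_eq_zero] at h1 h2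
  by_cases hβ : β = 0
  · have hα : α ≠ 0 := fun h0 => hs0 (by simp [h0, hβ])
    subst hβ
    rw [mul_zero, add_zero] at h2
    exact (IsUnit.dvd_mul_left ((isUnit_iff_ne_zero.2 hα).map C)).1 h2
  · rw [mul_zero, zero_add] at h1
    have := (IsUnit.dvd_mul_left ((isUnit_iff_ne_zero.2 hβ).map C)).1 h1
    rwa [← wronskian_neg_eq, dvd_neg] at this

end Groth.Agent.InsepLimit
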