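import Groth.Agent.InsepLimit.Limit
import Mathlib.RingTheory.Valuation.ValuationRing
import Mathlib.Algebra.CharP.Algebra
import Mathlib.LinearAlgebra.FiniteDimensional.Lemmas

/-!
An inseparable limit of pencils forces a special configuration of the ramification points.
-/

set_option autoImplicit false
universe u

open Polynomial

noncomputable section

namespace Groth.Agent.InsepLimit

section Config

variable {k : Type u} [Field k] {n : ℕ} {c : Fin n → k} {m : Fin n → ℕ}

theorem le_of_pow_dvd_prod (hc : Function.Injective c) {z : k} {l : ℕ}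
    (h : (X - C z) ^ l ∣ ∏ i, (X - C (c i)) ^ m i) : l = 0 ∨ ∃ i, c i = z ∧ l ≤ m i := by
  classical
  by_cases hl : l = 0
  · exact Or.inl hl
  right
  by_cases hz : ∃ i, c i = z
  · obtain ⟨i, rfl⟩ := hz
    refine ⟨i, rfl, ?_⟩
    rw [← Finset.mul_prod_erase Finset.univ _ (Finset.mem_univ i)] at h
    have hcop : IsCoprime ((X - C (c i)) ^ l) (∏ j ∈ Finset.univ.erase i, (X - C (c j)) ^ m j) :=
      IsCoprime.prod_right fun j hj => (pairwise_coprime_X_sub_C hc (Finset.ne_of_mem_erase hj).symm).pow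
    have h' := natDegree_le_of_dvd (hcop.dvd_of_dvd_mul_right h) (pow_ne_zero _ (X_sub_C_ne_zero _))
    simpa [natDegree_pow] using h'
  · have hcop : IsCoprime ((X - C z) ^ l) (∏ j, (X - C (c j)) ^ m j) :=
      IsCoprime.prod_right fun j _ => by
        refine ((isCoprime_X_sub_C_of_isUnit_sub ?_)).pow
        exact isUnit_iff_ne_zero.2 (sub_ne_zero.2 fun h0 => hz ⟨j, h0.symm⟩)
    have hu : IsUnit ((X - C z) ^ l) := hcop.isUnit_of_dvd h
    rw [isUnit_pow_iff hl] at hu
    exact absurd hu (not_isUnit_X_sub_C z)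

theorem wronskian_dvd_of_root {s t : k[X]} {z : k} {e : ℕ} (he : 1 ≤ e) (hs : (X - C z) ^ e ∣ s)
    (ht : (X - C z) ∣ t) : (X - C z) ^ e ∣ wronskian s t := by
  refine dvd_sub (dvd_mul_of_dvd_left hs _) ?_
  rw [show (X - C z) ^ e = (X - C z) ^ (e - 1) * (X - C z) by rw [← pow_succ]; congr 1; omega]
  exact mul_dvd_mul (pow_sub_one_dvd_derivative_of_pow_dvd hs) ht

theorem wronskian_pair (h D : k[X]) (a b a' b' : k) :
    wronskian (C a * h + C b * D) (C a' * h + C b' * D) = C (a * b' - b * a') * wronskian h D := by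
  simp only [wronskian, derivative_add, derivative_C_mul, map_sub, map_mul]
  ring

/-- From a pair with Wronskian a product of linear factors to a pencil with that ramification. -/
theorem exists_pencil {h D : k[X]} {γ : k} (hγ : γ ≠ 0) (hc : Function.Injective c) {e : Fin n → ℕ}
    (he : ∀ i, 1 ≤ e i) (hW : wronskian h D = C γ * ∏ i, (X - C (c i)) ^ (e i - 1))
    (hdeg : h.natDegree < D.natDegree)
    (hcong : ∀ i, ∃ a b : k, (a ≠ 0 ∨ b ≠ 0) ∧ (X - C (c i)) ^ e i ∣ C a * h + C b * D) :
    ∃ V ∈ W4c1limliniiii.ramMaps D.natDegree c e,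
      W4c1limliniiii.HasRamIdxInf D.natDegree V (D.natDegree - h.natDegree) := by
  classical
  have hprod : (∏ i, (X - C (c i)) ^ (e i - 1)) ≠ 0 :=
    Finset.prod_ne_zero_iff.2 fun i _ => pow_ne_zero _ (X_sub_C_ne_zero _)
  have hw : wronskian h D ≠ 0 := by rw [hW]; exact mul_ne_zero (C_ne_zero.2 hγ) hprod
  have hh : h ≠ 0 := fun h0 => hw (by rw [h0, wronskian_zero_left])
  have hD : D ≠ 0 := fun h0 => hw (by rw [h0, wronskian_zero_right])
  have hcomb : ∀ a b : k, C a * h + C b * D = 0 → a = 0 ∧ b = 0 := by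
    intro a b h0
    constructor
    · have := congrArg (fun q => wronskian q D) h0
      simpa [wronskian_add_left, wronskian_smul_left, wronskian_zero_left, wronskian_self_eq_zero, hw] using this
    · have := congrArg (fun q => wronskian h q) h0
      simpa [wronskian_add_right, wronskian_smul_right, wronskian_zero_right, wronskian_self_eq_zero, hw] using this
  let V : Submodule k k[X] := Submodule.span k {h, D}
  have hV : ∀ s ∈ V, ∃ a b : k, C a * h + C b * D = s := fun s hs => by
    obtain ⟨a, b, rfl⟩ := Submodule.mem_span_pair.1 hs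
    exact ⟨a, b, by simp [smul_eq_C_mul]⟩
  have hmem : ∀ a b : k, C a * h + C b * D ∈ V := fun a b =>
    Submodule.mem_span_pair.2 ⟨a, b, by simp [smul_eq_C_mul]⟩
  -- multiplicities of members
  have hmult : ∀ (a b : k) (z : k) (l : ℕ), (a ≠ 0 ∨ b ≠ 0) → (X - C z) ^ l ∣ C a * h + C b * D →
      (X - C z) ^ (l - 1) ∣ ∏ i, (X - C (c i)) ^ (e i - 1) := by
    intro a b z l hab hl
    have h1 : ∀ a' b' : k, (X - C z) ^ (l - 1) ∣ C (a * b' - b * a') * wronskian h D := fun a' b' =>
      wronskian_pair h D a b a' b' ▸ pow_dvd_wronskian hl _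
    rw [hW] at h1
    rcases hab with ha | hb
    · have := h1 0 1
      rw [← mul_assoc, ← map_mul] at this
      exact (IsUnit.dvd_mul_left ((isUnit_iff_ne_zero.2 (by simpa using mul_ne_zero ha hγ)).map C)).1 this
    · have := h1 1 0
      rw [← mul_assoc, ← map_mul] at this
      exact (IsUnit.dvd_mul_left ((isUnit_iff_ne_zero.2 (by simpa using mul_ne_zero hb hγ)).map C)).1 this
  -- no base point
  have hbase : ∀ z : k, ¬ (h.IsRoot z ∧ D.IsRoot z) := by
    rintro z ⟨h1, h2⟩
    rw [← dvd_iff_isRoot] at h1 h2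
    have hsq : (X - C z) ^ 1 ∣ ∏ i, (X - C (c i)) ^ (e i - 1) := by
      rw [pow_one]
      have : (X - C z) ∣ wronskian h D := dvd_sub (dvd_mul_of_dvd_left h1 _) (dvd_mul_of_dvd_right h2 _)
      rw [hW] at this
      exact (IsUnit.dvd_mul_left ((isUnit_iff_ne_zero.2 hγ).map C)).1 this
    obtain hl | ⟨i, rfl, -⟩ := le_of_pow_dvd_prod hc hsq
    · omega
    obtain ⟨a, b, hab, hdvd⟩ := hcong i
    have h3 : ∀ a' b' : k, (X - C (c i)) ^ e i ∣ C (a * b' - b * a') * wronskian h D := fun a' b' =>
      wronskian_pair h D a b a' b' ▸ wronskian_dvd_of_root (he i) hdvd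
        (dvd_add (dvd_mul_of_dvd_right h1 _) (dvd_mul_of_dvd_right h2 _))
    rw [hW] at h3
    have h4 : (X - C (c i)) ^ e i ∣ ∏ j, (X - C (c j)) ^ (e j - 1) := by
      rcases hab with ha | hb
      · have := h3 0 1
        rw [← mul_assoc, ← map_mul] at this
        exact (IsUnit.dvd_mul_left ((isUnit_iff_ne_zero.2 (by simpa using mul_ne_zero ha hγ)).map C)).1 this
      · have := h3 1 0
        rw [← mul_assoc, ← map_mul] at this
        exact (IsUnit.dvd_mul_left ((isUnit_iff_ne_zero.2 (by simpa using mul_ne_zero hb hγ)).map C)).1 this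
    obtain hl | ⟨j, hj, hjl⟩ := le_of_pow_dvd_prod hc h4
    · exact absurd hl (Nat.one_le_iff_ne_zero.1 (he i))
    · obtain rfl := hc hj
      have := he j
      omega
  have hdeg' : ∀ a b : k, b ≠ 0 → (C a * h + C b * D).natDegree = D.natDegree := fun a b hb => by
    rw [natDegree_add_eq_right_of_natDegree_lt]
    · exact natDegree_C_mul hb
    · exact (natDegree_C_mul_le a h).trans_lt (by rw [natDegree_C_mul hb]; exact hdeg)
  refine ⟨V, ⟨⟨?_, ?_, ⟨D, Submodule.subset_span (Or.inr rfl), rfl⟩, fun z => ?_⟩, ?_, fun i => ⟨?_, ?_⟩⟩, ?_, ?_⟩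
  · rw [Submodule.span_le]
    rintro _ (rfl | rfl)
    · exact mem_degreeLE.2 (natDegree_le_iff_degree_le.1 hdeg.le)
    · exact mem_degreeLE.2 (natDegree_le_iff_degree_le.1 le_rfl)
  · have hli : LinearIndependent k ![h, D] := by
      rw [LinearIndependent.pair_iff]
      intro a b h0
      exact hcomb a b (by simpa [smul_eq_C_mul] using h0)
    have hV' : V = Submodule.span k (Set.range ![h, D]) := by
      refine congrArg (Submodule.span k) (Set.ext fun q => ?_)
      simp [eq_comm, or_comm]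
    rw [hV', finrank_span_eq_card hli, Fintype.card_fin]
  · by_contra! h0
    exact hbase z ⟨h0 h (Submodule.subset_span (Or.inl rfl)), h0 D (Submodule.subset_span (Or.inr rfl))⟩
  · exact ⟨h, Submodule.subset_span (Or.inl rfl), D, Submodule.subset_span (Or.inr rfl), hw⟩
  · obtain ⟨a, b, hab, hdvd⟩ := hcong i
    have h0 : C a * h + C b * D ≠ 0 := fun h0 => by
      obtain ⟨ha, hb⟩ := hcomb a b h0
      tauto
    exact ⟨_, hmem a b, h0, (le_rootMultiplicity_iff h0).2 hdvd⟩
  · intro s hs hs0
    obtain ⟨a, b, rfl⟩ := hV s hs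
    have hab : a ≠ 0 ∨ b ≠ 0 := by
      by_contra! h0
      exact hs0 (by simp [h0.1, h0.2])
    by_contra! hlt
    have := hmult a b (c i) (e i + 1) hab ((le_rootMultiplicity_iff hs0).1 hlt)
    obtain hl | ⟨j, hj, hjl⟩ := le_of_pow_dvd_prod hc this
    · have := he i; omega
    · obtain rfl := hc hj
      have := he j
      omega
  · exact ⟨h, Submodule.subset_span (Or.inl rfl), hh, by omega⟩
  · intro s hs hs0
    obtain ⟨a, b, rfl⟩ := hV s hs
    by_cases hb : b = 0
    · subst hb
      have ha : a ≠ 0 := fun ha => hs0 (by simp [ha])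
      simp only [map_zero, zero_mul, add_zero, natDegree_C_mul ha]
      omega
    · rw [hdeg' a b hb]; omega

end Config

section Main

variable {A : Type u} [CommRing A] [IsDomain A] [IsDiscreteValuationRing A]
variable {K : Type u} [Field K] [Algebra A K] [IsFractionRing A K]

local notation "k" => IsLocalRing.ResidueField A
local notation "res" => IsLocalRing.residue A

theorem exists_dependent_reductions {D₁ D₂ : A[X]} {P : A} {e : ℕ} {T' : K[X]} {l₁ l₂ : K}
    (h₁ : (X - C (algebraMap A K P)) ^ e ∣ D₁.map (algebraMap A K) - C l₁ * T')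
    (h₂ : (X - C (algebraMap A K P)) ^ e ∣ D₂.map (algebraMap A K) - C l₂ * T') :
    ∃ a b : k, (a ≠ 0 ∨ b ≠ 0) ∧ (X - C (res P)) ^ e ∣ C a * D₁.map res + C b * D₂.map res := by
  have hinj : Function.Injective (algebraMap A K) := IsFractionRing.injective A K
  have hE : ((X - C P) ^ e).map (algebraMap A K) = (X - C (algebraMap A K P)) ^ e := by
    simp [Polynomial.map_pow]
  have hmon : ((X - C P) ^ e).Monic := (monic_X_sub_C P).pow e
  have key : ∀ (E₁ E₂ : A[X]) (r : A) (l l' : K),
      (X - C (algebraMap A K P)) ^ e ∣ E₁.map (algebraMap A K) - C l * T' →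
      (X - C (algebraMap A K P)) ^ e ∣ E₂.map (algebraMap A K) - C l' * T' →
      l = algebraMap A K r * l' → (X - C (res P)) ^ e ∣ E₁.map res - C (res r) * E₂.map res := by
    intro E₁ E₂ r l l' hE₁ hE₂ hl
    have h3 : (X - C (algebraMap A K P)) ^ e ∣ (E₁ - C r * E₂).map (algebraMap A K) := by
      have := dvd_sub hE₁ (hE₂.mul_left (C (algebraMap A K r)))
      refine this.trans (dvd_of_eq ?_)
      rw [Polynomial.map_sub, Polynomial.map_mul, map_C, hl, map_mul]
      ring
    rw [← hE, map_dvd_map _ hinj hmon] at h3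
    have := Polynomial.map_dvd res h3
    simpa [Polynomial.map_sub, Polynomial.map_mul, Polynomial.map_pow] using this
  by_cases hl : l₂ = 0
  · refine ⟨0, 1, Or.inr one_ne_zero, ?_⟩
    have := key D₂ D₂ 0 l₂ l₂ h₂ h₂ (by simp [hl])
    simpa using this
  by_cases hl₁ : l₁ = 0
  · refine ⟨1, 0, Or.inl one_ne_zero, ?_⟩
    have := key D₁ D₁ 0 l₁ l₁ h₁ h₁ (by simp [hl₁])
    simpa using this
  rcases ValuationRing.isInteger_or_isInteger A (l₁ / l₂) with ⟨r, hr⟩ | ⟨r, hr⟩
  · refine ⟨1, -res r, Or.inl one_ne_zero, ?_⟩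
    have := key D₁ D₂ r l₁ l₂ h₁ h₂ (by rw [hr, div_mul_cancel₀ _ hl])
    simpa [sub_eq_add_neg] using this
  · refine ⟨-res r, 1, Or.inr one_ne_zero, ?_⟩
    have := key D₂ D₁ r l₂ l₁ h₂ h₁ (by rw [hr, inv_div, div_mul_cancel₀ _ hl₁])
    simpa [sub_eq_neg_add] using this

theorem exists_configuration (p : ℕ) [Fact p.Prime] [CharP A p] [IsAlgClosed k]
    (d n : ℕ) (e : Fin n → ℕ) (he : W4c1limliniiii.Admissible p d e) (hlt : ∀ i, e i < p)
    (P : Fin n → A) (F G : A[X]) (hF : F.natDegree ≤ d) (hG : G.natDegree ≤ d)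
    (hind : LinearIndependent k ![F.map res, G.map res])
    (hgen : Submodule.span K {F.map (algebraMap A K), G.map (algebraMap A K)} ∈
      W4c1limliniiii.ramMaps d (fun i => algebraMap A K (P i)) e)
    (hinsep : ¬ W4c1limliniiii.IsSeparable (Submodule.span k {F.map res, G.map res}))
    (hdist : Function.Injective (fun i => res (P i))) :
    ∃ m ε : ℕ, 1 ≤ m ∧ m * p ≤ d ∧ ε ≤ 1 ∧
      ∃ V ∈ W4c1limliniiii.ramMaps (d + m * p - 1 + ε) (fun i => res (P i)) e,
        W4c1limliniiii.HasRamIdxInf (d + m * p - 1 + ε) V (2 * m * p - 1 + 2 * ε) := by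
  classical
  have hp : p.Prime := Fact.out
  have hinj : Function.Injective (algebraMap A K) := IsFractionRing.injective A K
  haveI : CharP K p := charP_of_injective_ringHom hinj p
  haveI : CharP k p := (CharP.charP_iff_prime_eq_zero hp).2 (by
    rw [← map_natCast res, CharP.cast_eq_zero A p, map_zero])
  haveI : ExpChar k p := ExpChar.prime hp
  haveI : PerfectRing k p := PerfectField.toPerfectRing p
  let φ := algebraMap A K
  let fb := F.map res
  let gb := G.map res
  have hfb : fb ≠ 0 := fun h => hind.ne_zero 0 h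
  have hWb : wronskian fb gb = 0 := by
    by_contra h
    exact hinsep ⟨fb, Submodule.subset_span (Or.inl rfl), gb, Submodule.subset_span (Or.inr rfl), h⟩
  -- the part of the special pencil without derivation constants
  have hex : ∃ m, ∃ q : k[X], q ≠ 0 ∧ wronskian fb q = 0 ∧ q.natDegree = m :=
    ⟨_, fb, hfb, wronskian_self_eq_zero fb, rfl⟩
  obtain ⟨h, hh, hfh, hhδ⟩ := Nat.find_spec hex
  have hmin : ∀ q : k[X], q ≠ 0 → wronskian h q = 0 → h.natDegree ≤ q.natDegree := fun q hq hw => by
    rw [hhδ]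
    refine Nat.find_min' hex ⟨q, hq, ?_, rfl⟩
    refine wronskian_trans hh ?_ hw
    rw [← wronskian_neg_eq, hfh, neg_zero]
  have hhf : wronskian h fb = 0 := by rw [← wronskian_neg_eq, hfh, neg_zero]
  have hhg : wronskian h gb = 0 := wronskian_trans hfb hfh hWb
  obtain ⟨A0, hA0', hA0⟩ := exists_factor p hh hmin _ fb le_rfl hhf
  obtain ⟨B0, hB0', hB0⟩ := exists_factor p hh hmin _ gb le_rfl hhg
  obtain ⟨a, rfl⟩ := exists_pow_eq p hA0'
  obtain ⟨b, rfl⟩ := exists_pow_eq p hB0'
  have ha : a ≠ 0 := fun h0 => hfb (by rw [hA0, h0, zero_pow hp.ne_zero, zero_mul])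
  have hfdeg : p * a.natDegree + h.natDegree ≤ d := by
    have h1 : fb.natDegree = p * a.natDegree + h.natDegree := by
      rw [hA0, natDegree_mul (pow_ne_zero _ ha) hh, natDegree_pow]
    have : fb.natDegree ≤ d := natDegree_map_le.trans hF
    omega
  let δ := h.natDegree
  let M := (d - δ) / p
  have hδe : δ = h.natDegree := rfl
  have hMd : p * M ≤ d - δ := Nat.mul_div_le _ _
  have hMd' : d - δ < p * (M + 1) := Nat.lt_mul_div_succ _ hp.pos
  have hM1 : 1 ≤ M := by
    rw [Nat.one_le_div_iff hp.pos]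
    by_cases hb : b = 0
    · refine absurd (hind.ne_zero 1) (not_not.2 ?_)
      show gb = 0
      rw [hB0, hb, zero_pow hp.ne_zero, zero_mul]
    by_contra hlt'
    have hgdeg : p * b.natDegree + h.natDegree ≤ d := by
      have h1 : gb.natDegree = p * b.natDegree + h.natDegree := by
        rw [hB0, natDegree_mul (pow_ne_zero _ hb) hh, natDegree_pow]
      have : gb.natDegree ≤ d := natDegree_map_le.trans hG
      omega
    have ha0 : a.natDegree = 0 := by
      by_contra h0
      have := Nat.mul_le_mul_left p (Nat.one_le_iff_ne_zero.2 h0)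
      omega
    have hb0 : b.natDegree = 0 := by
      by_contra h0
      have := Nat.mul_le_mul_left p (Nat.one_le_iff_ne_zero.2 h0)
      omega
    rw [eq_C_of_natDegree_eq_zero ha0, ← map_pow] at hA0
    rw [eq_C_of_natDegree_eq_zero hb0, ← map_pow] at hB0
    refine (pow_ne_zero p fun h0 => ha ?_) ((LinearIndependent.pair_iff.1 hind
      (b.coeff 0 ^ p) (-(a.coeff 0 ^ p)) (by
        show (b.coeff 0 ^ p) • fb + (-(a.coeff 0 ^ p)) • gb = 0
        rw [hA0, hB0, smul_eq_C_mul, smul_eq_C_mul, map_neg]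
        ring)).2 |> neg_eq_zero.1)
    rw [eq_C_of_natDegree_eq_zero ha0, h0, map_zero]
  -- the Wronskian on the generic fibre
  let FK := F.map φ
  let GK := G.map φ
  obtain ⟨⟨-, -, -, -⟩, ⟨s₁, hs₁, s₂, hs₂, hsw⟩, hram⟩ := hgen
  have hWK : wronskian FK GK ≠ 0 := fun h0 => by
    obtain ⟨a₁, b₁, rfl⟩ := Submodule.mem_span_pair.1 hs₁
    obtain ⟨a₂, b₂, rfl⟩ := Submodule.mem_span_pair.1 hs₂
    refine hsw ?_
    rw [smul_eq_C_mul, smul_eq_C_mul, smul_eq_C_mul, smul_eq_C_mul, wronskian_pair]
    show _ * wronskian FK GK = 0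
    rw [h0, mul_zero]
  have hPK : Function.Injective fun i => φ (P i) := fun i j hij => hdist (congrArg res (hinj hij))
  have hsK : ∀ i, ∃ s ∈ Submodule.span K {FK, GK}, s ≠ 0 ∧ (X - C (φ (P i))) ^ e i ∣ s := fun i => by
    obtain ⟨⟨s, hs, hs0, hse⟩, -⟩ := hram i
    exact ⟨s, hs, hs0, (le_rootMultiplicity_iff hs0).1 hse⟩
  let Q : A[X] := ∏ i, (X - C (P i)) ^ (e i - 1)
  have hQmon : Q.Monic := monic_prod_of_monic _ _ fun i _ => (monic_X_sub_C _).pow _
  have hQK : Q.map φ = ∏ i, (X - C (φ (P i))) ^ (e i - 1) := by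
    simp [Q, Polynomial.map_prod]
  have hQk : Q.map res = ∏ i, (X - C (res (P i))) ^ (e i - 1) := by
    simp [Q, Polynomial.map_prod]
  have hQdeg : Q.natDegree + 2 = 2 * d := by
    rw [natDegree_prod_of_monic _ _ fun i _ => (monic_X_sub_C _).pow _]
    simp only [natDegree_pow, natDegree_X_sub_C, mul_one]
    have h1 : ∑ i, (e i - 1) + n = ∑ i, e i := by
      have h2 : ∑ i, (e i - 1) + ∑ _i : Fin n, 1 = ∑ i, e i := by
        rw [← Finset.sum_add_distrib]
        exact Finset.sum_congr rfl fun i _ => by have := (he.1 i).1; omega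
      simpa using h2
    have := he.2
    omega
  obtain ⟨W₁, hW₁⟩ := hQK ▸ prod_dvd_wronskian hPK hWK hsK
  have hFKd : FK.natDegree ≤ d := natDegree_map_le.trans hF
  have hGKd : GK.natDegree ≤ d := natDegree_map_le.trans hG
  have hW₁' : derivative W₁ = 0 := by
    refine derivative_of_natDegree_zero ?_
    have h1 := natDegree_wronskian_add_two_le hFKd hGKd hWK
    rw [hW₁, natDegree_mul (hQmon.map φ).ne_zero (fun h0 => hWK (by rw [hW₁, h0, mul_zero])),
      hQmon.natDegree_map] at h1
    omega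
  -- the key identity after reduction
  have key : ∀ D : A[X], D.map φ ∈ LinearMap.range (comb p M FK GK) →
      ∃ γ : k, wronskian h (D.map res) = C γ * Q.map res := by
    rintro D ⟨⟨u, v⟩, huv⟩
    have hu := derivative_sum_expand p M u
    have hv := derivative_sum_expand p M v
    rw [comb_apply] at huv
    have h1 : (wronskian F D).map φ = Q.map φ * ((∑ j, C (v j) * X ^ (p * j.val)) * W₁) := by
      rw [map_wronskian, ← huv]
      show wronskian FK _ = _
      rw [wronskian_combination _ _ _ _ hu hv, hW₁]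
      ring
    obtain ⟨VA, hVA⟩ := (map_dvd_map φ hinj hQmon).1 ⟨_, h1⟩
    have hVA' : derivative VA = 0 := by
      refine map_injective φ hinj ?_
      rw [hVA, Polynomial.map_mul] at h1
      rw [← derivative_map, mul_left_cancel₀ (hQmon.map φ).ne_zero h1, derivative_mul, hv, hW₁']
      simp
    obtain ⟨b', hb'⟩ := exists_pow_eq p (f := VA.map res) (by rw [derivative_map, hVA', Polynomial.map_zero])
    have h2 : a ^ p * wronskian h (D.map res) = Q.map res * b' ^ p := by
      rw [← wronskian_smul_left h _ _ hA0', ← hA0, ← map_wronskian, hVA, Polynomial.map_mul, hb']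
    obtain ⟨c, hc⟩ := exists_cancel_pow p ha (fun z hz => by
      rw [hQk] at hz
      obtain hl | ⟨i, -, hle⟩ := le_of_pow_dvd_prod hdist hz
      · exact hp.ne_zero hl
      · have := hlt i; omega) h2
    by_cases hc0 : c = 0
    · exact ⟨0, by rw [hc, hc0, zero_pow hp.ne_zero, mul_zero, map_zero, zero_mul]⟩
    have hdegD : (D.map res).natDegree ≤ d + p * M := by
      refine natDegree_map_le.trans ?_
      rw [← natDegree_map_eq_of_injective hinj, ← huv, ← comb_apply]
      exact natDegree_comb_le p M d hFKd hGKd _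
    have hδM : δ + (d + p * M) ≤ 2 * d := by omega
    have h3 := natDegree_wronskian_le (a := h) (b := D.map res) (N := δ + (d + p * M) - 1) le_rfl hdegD (by omega)
    rw [hc, natDegree_mul (hQmon.map res).ne_zero (pow_ne_zero _ hc0), natDegree_pow, hQmon.natDegree_map] at h3
    have hcd : c.natDegree = 0 := by
      by_contra h0
      have := Nat.mul_le_mul_left p (Nat.one_le_iff_ne_zero.2 h0)
      have := hp.two_le
      omega
    refine ⟨c.coeff 0 ^ p, ?_⟩
    rw [hc, map_pow, ← eq_C_of_natDegree_eq_zero hcd, mul_comm]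
  -- the space of reductions
  let UK := LinearMap.range (comb p M FK GK)
  have hUK : UK ≤ degreeLT K (d + p * M + 1) := by
    rintro _ ⟨z, rfl⟩
    rw [mem_degreeLT]
    refine (degree_le_natDegree).trans_lt ?_
    have := natDegree_comb_le p M d hFKd hGKd z
    exact_mod_cast Nat.lt_succ_of_le this
  obtain ⟨Dl, hDl, hli⟩ := exists_independent_reductions A K UK _ hUK
  have hUKdim : Module.finrank K UK = (M + 1) + (M + 1) := by
    rw [LinearMap.finrank_range_of_inj (comb_injective p M hWK)]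
    simp
  let U : Submodule k k[X] := Submodule.span k (Set.range fun i => (Dl i).map res)
  haveI : Module.Finite k U := Module.Finite.span_of_finite k (Set.finite_range _)
  have hUdim : Module.finrank k U = (M + 1) + (M + 1) := by
    rw [finrank_span_eq_card hli, Fintype.card_fin, hUKdim]
  have hlift : ∀ q ∈ U, ∃ D : A[X], D.map φ ∈ UK ∧ D.map res = q := by
    intro q hq
    obtain ⟨c, rfl⟩ := (Submodule.mem_span_range_iff_exists_fun k).1 hq
    choose l hl using fun i => IsLocalRing.residue_surjective (c i)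
    refine ⟨∑ i, C (l i) * Dl i, ?_, ?_⟩
    · rw [Polynomial.map_sum]
      refine sum_mem fun i _ => ?_
      rw [Polynomial.map_mul, map_C, ← smul_eq_C_mul]
      exact UK.smul_mem _ (hDl i)
    · rw [Polynomial.map_sum]
      exact Finset.sum_congr rfl fun i _ => by rw [Polynomial.map_mul, map_C, hl, smul_eq_C_mul]
  have hUdeg : ∀ q ∈ U, q.natDegree ≤ d + p * M := fun q hq => by
    obtain ⟨D, hD, rfl⟩ := hlift q hq
    refine natDegree_map_le.trans ?_
    rw [← natDegree_map_eq_of_injective hinj]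
    obtain ⟨z, hz⟩ := hD
    rw [← hz]
    exact natDegree_comb_le p M d hFKd hGKd z
  have hUW : ∀ q ∈ U, ∃ γ : k, wronskian h q = C γ * Q.map res := fun q hq => by
    obtain ⟨D, hD, rfl⟩ := hlift q hq
    exact key D hD
  let Z : Submodule k k[X] := Submodule.span k (Set.range fun j : Fin (2 * M + 1) => X ^ (p * j.val) * h)
  haveI : Module.Finite k Z := Module.Finite.span_of_finite k (Set.finite_range _)
  let ω : U →ₗ[k] k[X] := (wronskianBilin k h).comp U.subtype
  have hker : Submodule.map U.subtype (LinearMap.ker ω) ≤ Z := by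
    rintro _ ⟨⟨q, hq⟩, hq0, rfl⟩
    have hq0 : wronskian h q = 0 := hq0
    show q ∈ Z
    obtain ⟨c, hc', rfl⟩ := exists_factor p hh hmin _ q le_rfl hq0
    by_cases hc0 : c = 0
    · rw [hc0, zero_mul]; exact zero_mem _
    have hdeg := hUdeg _ hq
    rw [natDegree_mul hc0 hh] at hdeg
    rw [← expand_contract p hc' hp.ne_zero] at hdeg ⊢
    rw [natDegree_expand] at hdeg
    have hlt2 : (contract p c).natDegree < 2 * M + 1 := by
      by_contra hge
      have h1 := Nat.mul_le_mul_right p (not_lt.1 hge)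
      have h2 : p * (M + 1) + p * M = (2 * M + 1) * p := by ring
      omega
    rw [(contract p c).as_sum_range' _ hlt2, map_sum, Finset.sum_mul]
    refine sum_mem fun j hj => ?_
    rw [expand_monomial, ← C_mul_X_pow_eq_monomial, mul_assoc, ← smul_eq_C_mul, mul_comm j p]
    exact Z.smul_mem _ (Submodule.subset_span ⟨⟨j, Finset.mem_range.1 hj⟩, rfl⟩)
  have hrange : LinearMap.range ω ≤ Submodule.span k {Q.map res} := by
    rintro _ ⟨⟨q, hq⟩, rfl⟩
    obtain ⟨γ, hγ⟩ := hUW q hq
    exact Submodule.mem_span_singleton.2 ⟨γ, (smul_eq_C_mul γ).trans hγ.symm⟩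
  have hrn := LinearMap.finrank_range_add_finrank_ker ω
  have hr1 : Module.finrank k (LinearMap.range ω) ≤ 1 :=
    (Submodule.finrank_mono hrange).trans (finrank_span_singleton (hQmon.map res).ne_zero).le
  have hk1 : Module.finrank k (LinearMap.ker ω) = Module.finrank k (Submodule.map U.subtype (LinearMap.ker ω)) :=
    (Submodule.equivMapOfInjective _ U.injective_subtype _).finrank_eq
  have hk2 := Submodule.finrank_mono hker
  have hZdim : Module.finrank k Z ≤ 2 * M + 1 := (finrank_range_le_card _).trans_eq (Fintype.card_fin _)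
  have hZU : Z ≤ U := by
    have heq := Submodule.eq_of_le_of_finrank_le hker (by omega)
    rw [← heq]
    exact Submodule.map_subtype_le U _
  have hexW : ∃ m, ∃ q ∈ U, wronskian h q ≠ 0 ∧ q.natDegree = m := by
    by_contra hno
    push_neg at hno
    have : LinearMap.range ω = ⊥ := eq_bot_iff.2 (by
      rintro _ ⟨⟨q, hq⟩, rfl⟩
      by_contra h0
      exact hno _ q hq h0 rfl)
    rw [this, finrank_bot] at hrn
    omega
  obtain ⟨D, hDU, hDW, hDdeg⟩ := Nat.find_spec hexW
  have hDmin : ∀ q ∈ U, wronskian h q ≠ 0 → D.natDegree ≤ q.natDegree := fun q hq hw => by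
    rw [hDdeg]; exact Nat.find_min' hexW ⟨q, hq, hw, rfl⟩
  obtain ⟨γ, hγW⟩ := hUW D hDU
  have hγ : γ ≠ 0 := fun h0 => hDW (by rw [hγW, h0, map_zero, zero_mul])
  have hWdeg : (wronskian h D).natDegree + 2 = 2 * d := by
    rw [hγW, natDegree_C_mul hγ, hQmon.natDegree_map, hQdeg]
  have hlt3 := natDegree_wronskian_lt_add hDW
  have hDd := hUdeg D hDU
  have hD0 : D ≠ 0 := fun h0 => hDW (by rw [h0, wronskian_zero_right])
  have hδD : δ < D.natDegree := by
    show h.natDegree < D.natDegree
    by_contra hle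
    have h4 : p ≤ p * M := Nat.le_mul_of_pos_right p hM1
    have := hp.two_le
    omega
  have hne : (D.natDegree : k) ≠ (h.natDegree : k) := fun hmod => by
    obtain ⟨c, j, hj, hred⟩ := exists_reduce p hh hD0 hδD.le hmod
    have hjM : j < 2 * M + 1 := by
      by_contra hge
      have h1 := Nat.mul_le_mul_left p (not_lt.1 hge)
      have h2 : p * (M + 1) + p * M = p * (2 * M + 1) := by ring
      omega
    have hmem : D - C c * X ^ (p * j) * h ∈ U := by
      refine U.sub_mem hDU (hZU ?_)
      rw [mul_assoc, ← smul_eq_C_mul]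
      exact Z.smul_mem _ (Submodule.subset_span ⟨⟨j, hjM⟩, rfl⟩)
    have hw' : wronskian h (D - C c * X ^ (p * j) * h) = wronskian h D := by
      rw [sub_eq_add_neg, wronskian_add_right, wronskian_neg_right,
        wronskian_smul_right _ _ _ (derivative_C_mul_X_pow_mul p c j), wronskian_self_eq_zero, mul_zero,
        neg_zero, add_zero]
    rcases hred with hred | hred
    · rw [hred, wronskian_zero_right] at hw'
      exact hDW hw'.symm
    · have := hDmin _ hmem (by rw [hw']; exact hDW)
      omega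
  have hdeg2 := (natDegree_wronskian_eq hh hD0 hne).2
  have hcong : ∀ i, ∃ a b : k, (a ≠ 0 ∨ b ≠ 0) ∧ (X - C (res (P i))) ^ e i ∣ C a * h + C b * D := by
    intro i
    obtain ⟨s, hs, hs0, hsd⟩ := hsK i
    obtain ⟨T, hT⟩ := exists_congr_range p (hlt i).le hs hs0 hsd M
    obtain ⟨D₁, hD₁, hD₁'⟩ := hlift h (hZU (Submodule.subset_span ⟨⟨0, by omega⟩, by simp⟩))
    obtain ⟨D₂, hD₂, hD₂'⟩ := hlift D hDU
    obtain ⟨l₁, hl₁⟩ := hT _ hD₁
    obtain ⟨l₂, hl₂⟩ := hT _ hD₂
    have := exists_dependent_reductions hl₁ hl₂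
    rwa [hD₁', hD₂'] at this
  refine ⟨M, d - δ - p * M, hM1, ?_, by omega, ?_⟩
  · rw [mul_comm]; omega
  have hN : d + M * p - 1 + (d - δ - p * M) = D.natDegree := by
    rw [mul_comm M p]; omega
  have h4 : 1 ≤ p * M := Nat.mul_pos hp.pos hM1
  have hE : 2 * M * p - 1 + 2 * (d - δ - p * M) = D.natDegree - h.natDegree := by
    rw [show 2 * M * p = 2 * (p * M) by ring]; omega
  rw [hN, hE]
  exact exists_pencil hγ hdist (fun i => by have := (he.1 i).1; omega) (by rw [hγW, hQk]) hδD hcong

end Main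

end Groth.Agent.InsepLimit
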